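import Mathlib

universe u

open CategoryTheory CategoryTheory.Limits AlgebraicGeometry TopologicalSpace

namespace Groth.Agent.SpreadUniq

/-- Two morphisms over `S` into a scheme locally of finite type over `S` which agree on `Spec O_{X,x}`
agree near `x` (no germ-injectivity). -/
theorem spread_out_unique {X Y S : Scheme.{u}} (sY : Y ⟶ S) [LocallyOfFiniteType sY] {x : X}
    (f g : X ⟶ Y) (hS : f ≫ sY = g ≫ sY) (e : X.fromSpecStalk x ≫ f = X.fromSpecStalk x ≫ g) :
    ∃ (U : X.Opens), x ∈ U ∧ U.ι ≫ f = U.ι ≫ g := by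
  classical
  have hfg : f x = g x := by simpa using congr($e (IsLocalRing.closedPoint _))
  have H : f.stalkMap x =
      Y.presheaf.stalkSpecializes (Inseparable.of_eq hfg.symm).specializes ≫ g.stalkMap x := by
    apply Spec.map_injective
    rw [← cancel_mono (Y.fromSpecStalk _)]
    simpa [Scheme.SpecMap_stalkSpecializes_fromSpecStalk]
  obtain ⟨_, ⟨W : S.Opens, hW, rfl⟩, hxW, -⟩ :=
    S.isBasis_affineOpens.exists_subset_of_mem_open (Set.mem_univ (sY (f x))) isOpen_univ
  obtain ⟨_, ⟨V : Y.Opens, hV, rfl⟩, hxV, hVW⟩ :=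
    Y.isBasis_affineOpens.exists_subset_of_mem_open (a := f x) (show f x ∈ sY ⁻¹ᵁ W from hxW)
      (sY ⁻¹ᵁ W).2
  have hxV' : g x ∈ V := hfg ▸ hxV
  let U₀ : X.Opens := f ⁻¹ᵁ V ⊓ g ⁻¹ᵁ V
  have hx0 : x ∈ U₀ := ⟨hxV, hxV'⟩
  let α := sY.appLE W V hVW
  have hα : α.hom.FiniteType := LocallyOfFiniteType.finiteType_appLE sY hW hV hVW
  algebraize [α.hom]
  obtain ⟨s, hs⟩ := Algebra.FiniteType.out (R := Γ(S, W)) (A := Γ(Y, V))
  let a := f.appLE V U₀ inf_le_left
  let b := g.appLE V U₀ inf_le_right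
  have hgerm : a ≫ X.presheaf.germ U₀ x hx0 = b ≫ X.presheaf.germ U₀ x hx0 := by
    simp only [a, b, Scheme.Hom.appLE, Category.assoc, X.presheaf.germ_res', ← Scheme.Hom.germ_stalkMap, H]
    simp only [TopCat.Presheaf.germ_stalkSpecializes_assoc, Scheme.Hom.germ_stalkMap]
  have hW' : ∀ y : Γ(Y, V), ∃ (U : X.Opens) (hU : U ≤ U₀), x ∈ U ∧
      X.presheaf.map (homOfLE hU).op (a y) = X.presheaf.map (homOfLE hU).op (b y) := by
    intro y
    have := congr($hgerm y)
    simp only [CommRingCat.comp_apply] at this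
    obtain ⟨U, hxU, iU, iV, h⟩ := X.presheaf.germ_eq x hx0 hx0 _ _ this
    exact ⟨U, iU.le, hxU, h⟩
  choose Uy hUy hxUy hEq using hW'
  let U : X.Opens := U₀ ⊓ s.inf Uy
  have hU : U ≤ U₀ := inf_le_left
  have hxU : x ∈ U := by
    refine ⟨hx0, ?_⟩
    have : ∀ t : Finset Γ(Y, V), x ∈ t.inf Uy := by
      intro t
      induction t using Finset.induction_on with
      | empty => simp
      | insert c t _ ih => rw [Finset.inf_insert]; exact ⟨hxUy c, ih⟩
    exact this s
  obtain ⟨_, ⟨U' : X.Opens, hU', rfl⟩, hxU', hU'U⟩ :=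
    X.isBasis_affineOpens.exists_subset_of_mem_open (a := x) hxU U.2
  have hle : U' ≤ U₀ := hU'U.trans hU
  have key : f.appLE V U' (hle.trans inf_le_left) = g.appLE V U' (hle.trans inf_le_right) := by
    ext1
    let eqz := RingHom.eqLocus (f.appLE V U' (hle.trans inf_le_left)).hom (g.appLE V U' (hle.trans inf_le_right)).hom
    suffices ∀ y, y ∈ eqz from RingHom.ext this
    intro y
    have hy : y ∈ Algebra.adjoin (Γ(S, W)) (s : Set Γ(Y, V)) := hs ▸ trivial
    induction hy using Algebra.adjoin_induction with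
    | mem y hy =>
      have hyU : U' ≤ Uy y := le_trans (show U' ≤ U from hU'U) (le_trans inf_le_right (Finset.inf_le hy))
      have h1 := congrArg (X.presheaf.map (homOfLE hyU).op) (hEq y)
      simp only [← CommRingCat.comp_apply, ← Functor.map_comp, ← Functor.map_comp_assoc, Category.assoc,
        a, b, Scheme.Hom.appLE_map] at h1
      exact h1
    | algebraMap r =>
      change (f.appLE V U' (hle.trans inf_le_left)) (α r) = (g.appLE V U' (hle.trans inf_le_right)) (α r)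
      rw [← CommRingCat.comp_apply, ← CommRingCat.comp_apply, Scheme.Hom.appLE_comp_appLE,
        Scheme.Hom.appLE_comp_appLE]
      congr 2
      simp only [hS]
    | add y z _ _ hy hz => exact eqz.add_mem hy hz
    | mul y z _ _ hy hz => exact eqz.mul_mem hy hz
  refine ⟨U', hxU', ?_⟩
  rw [← Scheme.Hom.resLE_comp_ι f (hle.trans inf_le_left), ← Scheme.Hom.resLE_comp_ι g (hle.trans inf_le_right)]
  congr 1
  have : IsAffine V := hV
  rw [← cancel_mono V.toScheme.isoSpec.hom]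
  simp only [Scheme.isoSpec, asIso_hom, Scheme.toSpecΓ_naturality,
    Scheme.Hom.app_eq_appLE, Scheme.Hom.resLE_appLE]
  congr 2
  have hgen : ∀ (U₁ : X.Opens) (V₁ : Y.Opens) (eU : U' = U₁) (eV : V = V₁)
      (h₁ : U₁ ≤ f ⁻¹ᵁ V₁) (h₂ : U₁ ≤ g ⁻¹ᵁ V₁), f.appLE V₁ U₁ h₁ = g.appLE V₁ U₁ h₂ := by
    rintro _ _ rfl rfl h₁ h₂
    exact key
  apply hgen <;> simp

end Groth.Agent.SpreadUniq
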